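import Groth.Prelude.Def_W4swconnpcurvhiggsLogLam

/-!
# Pieces and layers of a log lambda-connection
-/

set_option autoImplicit false

universe v u

open TensorProduct Finset

namespace Groth.Agent.LogConnH7

variable {A : Type v} {B L E : Type u} [CommRing A] [CommRing B] [Algebra A B]
  [AddCommGroup L] [Module B L] [Module A L] [IsScalarTower A B L]
  [AddCommGroup E] [Module B E] [Module A E] [IsScalarTower A B E]
  {lam : B} {n : ℕ} {t : Fin n → B} {bΩ : Module.Basis (Fin n) B (KaehlerDifferential A B)}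
  {ω : Module.Basis (Fin n) B L} {ι : KaehlerDifferential A B →ₗ[B] L}
  {nabla : E →ₗ[A] E ⊗[B] L}

/-- Partial derivative in the coordinates. -/
noncomputable def pd (bΩ : Module.Basis (Fin n) B (KaehlerDifferential A B)) (i : Fin n) :
    Derivation A B B :=
  (bΩ.coord i).compDer (KaehlerDifferential.D A B)

theorem coord_iota (hbΩ : ∀ i, bΩ i = KaehlerDifferential.D A B (t i))
    (hι : ∀ i, ι (KaehlerDifferential.D A B (t i)) = t i • ω i) (i : Fin n)
    (η : KaehlerDifferential A B) : ω.coord i (ι η) = t i * bΩ.coord i η := by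
  have : (ω.coord i) ∘ₗ ι = t i • bΩ.coord i := by
    refine bΩ.ext fun j => ?_
    rw [LinearMap.comp_apply, hbΩ, hι, map_smul, LinearMap.smul_apply, ← hbΩ]
    simp only [Module.Basis.coord_apply, Module.Basis.repr_self, smul_eq_mul]
    rcases eq_or_ne j i with rfl | h
    · simp
    · simp [Finsupp.single_eq_of_ne h.symm]
  exact LinearMap.congr_fun this η

theorem pd_t (hbΩ : ∀ i, bΩ i = KaehlerDifferential.D A B (t i)) {i j : Fin n} (h : j ≠ i) :
    pd bΩ i (t j) = 0 := by
  show bΩ.coord i (KaehlerDifferential.D A B (t j)) = 0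
  rw [← hbΩ, Module.Basis.coord_apply, Module.Basis.repr_self, Finsupp.single_eq_of_ne h.symm]

theorem pd_prod (hbΩ : ∀ i, bΩ i = KaehlerDifferential.D A B (t i)) {i : Fin n} {s : Finset (Fin n)}
    (h : i ∉ s) : pd bΩ i (∏ j ∈ s, t j) = 0 := by
  induction s using Finset.induction_on with
  | empty => simp
  | @insert a s ha ih =>
    rw [Finset.prod_insert ha, Derivation.leibniz, ih (fun h' => h (Finset.mem_insert_of_mem h')),
      pd_t hbΩ (show a ≠ i from fun e => h (by rw [← e]; exact Finset.mem_insert_self _ _)), smul_zero, smul_zero, add_zero]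

theorem comp_smul (hbΩ : ∀ i, bΩ i = KaehlerDifferential.D A B (t i))
    (hι : ∀ i, ι (KaehlerDifferential.D A B (t i)) = t i • ω i)
    (hc : Conn.IsLamConn (ι.compDer (KaehlerDifferential.D A B)) lam nabla) (i : Fin n) (b : B) (x : E) :
    LogConn.comp nabla ω i (b • x) =
      b • LogConn.comp nabla ω i x + (lam * t i * pd bΩ i b) • x := by
  simp only [LogConn.comp, Conn.along_apply]
  rw [hc, map_add, map_smul, map_smul, TensorProduct.map_tmul, map_add, map_smul, map_smul,
    TensorProduct.rid_tmul, LinearMap.id_apply]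
  show _ + lam • (ω.coord i (ι (KaehlerDifferential.D A B b))) • x = _
  rw [coord_iota hbΩ hι, smul_smul, ← mul_assoc]
  rfl

theorem compProd_insert (nabla : E →ₗ[A] E ⊗[B] L) (ω : Module.Basis (Fin n) B L) {i : Fin n}
    {J : Finset (Fin n)} (hlt : ∀ j ∈ J, i < j) (e : E) :
    LogConn.compProd nabla ω (insert i J) e = LogConn.comp nabla ω i (LogConn.compProd nabla ω J e) := by
  rw [LogConn.compProd, LogConn.compProd, Finset.sort_insert (r := (· ≤ ·)) (h₁ := fun j hj => (hlt j hj).le) (h₂ := fun h => lt_irrefl _ (hlt i h))]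
  rfl

variable (nabla ω t) in
/-- The `B`-span of the generators of the piece coming from a family. -/
noncomputable def spanPiece (G : Set E) (I : Finset (Fin n)) : Submodule B E :=
  Submodule.span B (⋃ J ∈ I.powerset, (fun g => (∏ i ∈ I \ J, t i) • LogConn.compProd nabla ω J g) '' G)

theorem mem_spanPiece {G : Set E} {I J : Finset (Fin n)} (h : J ⊆ I) {g : E} (hg : g ∈ G) :
    (∏ i ∈ I \ J, t i) • LogConn.compProd nabla ω J g ∈ spanPiece t ω nabla G I :=
  Submodule.subset_span (Set.mem_biUnion (Finset.mem_powerset.2 h) ⟨g, hg, rfl⟩)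

theorem prod_smul_mem_spanPiece {G : Set E} {I J : Finset (Fin n)} (h : J ⊆ I) {x : E}
    (hx : x ∈ spanPiece t ω nabla G J) : (∏ i ∈ I \ J, t i) • x ∈ spanPiece t ω nabla G I := by
  induction hx using Submodule.span_induction with
  | mem y hy =>
    obtain ⟨J', hJ', g, hg, rfl⟩ := Set.mem_iUnion₂.1 hy
    rw [Finset.mem_powerset] at hJ'
    have hu : I \ J' = (I \ J) ∪ (J \ J') := by
      ext a
      simp only [Finset.mem_sdiff, Finset.mem_union]
      constructor
      · rintro ⟨ha, ha'⟩
        by_cases haJ : a ∈ J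
        · exact Or.inr ⟨haJ, ha'⟩
        · exact Or.inl ⟨ha, haJ⟩
      · rintro (⟨ha, ha'⟩ | ⟨ha, ha'⟩)
        exacts [⟨ha, fun h' => ha' (hJ' h')⟩, ⟨h ha, ha'⟩]
    rw [smul_smul, ← Finset.prod_union (Finset.sdiff_disjoint.mono_right Finset.sdiff_subset), ← hu]
    exact mem_spanPiece (hJ'.trans h) hg
  | zero => rw [smul_zero]; exact Submodule.zero_mem _
  | add a b _ _ ha hb => rw [smul_add]; exact Submodule.add_mem _ ha hb
  | smul c a _ ha => rw [smul_comm]; exact Submodule.smul_mem _ _ ha

theorem comp_mem_spanPiece (hbΩ : ∀ i, bΩ i = KaehlerDifferential.D A B (t i))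
    (hι : ∀ i, ι (KaehlerDifferential.D A B (t i)) = t i • ω i)
    (hc : Conn.IsLamConn (ι.compDer (KaehlerDifferential.D A B)) lam nabla)
    {G : Set E} {i : Fin n} {J : Finset (Fin n)} (hlt : ∀ j ∈ J, i < j) {x : E}
    (hx : x ∈ spanPiece t ω nabla G J) :
    LogConn.comp nabla ω i x ∈ spanPiece t ω nabla G (insert i J) := by
  have hi : i ∉ J := fun h => lt_irrefl _ (hlt i h)
  have hti : ∀ y ∈ spanPiece t ω nabla G J, t i • y ∈ spanPiece t ω nabla G (insert i J) := by
    intro y hy
    have := prod_smul_mem_spanPiece (Finset.subset_insert i J) hy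
    rwa [Finset.insert_sdiff_of_notMem _ hi, Finset.sdiff_self, insert_empty_eq, Finset.prod_singleton] at this
  induction hx using Submodule.span_induction with
  | mem y hy =>
    obtain ⟨J', hJ', g, hg, rfl⟩ := Set.mem_iUnion₂.1 hy
    rw [Finset.mem_powerset] at hJ'
    rw [comp_smul hbΩ hι hc, pd_prod hbΩ (fun h => hi (Finset.mem_sdiff.1 h).1), mul_zero, zero_smul, add_zero,
      ← compProd_insert nabla ω (fun j hj => hlt j (hJ' hj))]
    have hset : J \ J' = insert i J \ insert i J' := by
      ext a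
      simp only [Finset.mem_sdiff, Finset.mem_insert]
      constructor
      · rintro ⟨ha, ha'⟩
        exact ⟨Or.inr ha, fun h => h.elim (fun e => hi (e ▸ ha)) ha'⟩
      · rintro ⟨ha, ha'⟩
        exact ⟨ha.resolve_left fun e => ha' (Or.inl e), fun h => ha' (Or.inr h)⟩
    rw [hset]
    exact mem_spanPiece (Finset.insert_subset_insert _ hJ') hg
  | zero => rw [map_zero]; exact Submodule.zero_mem _
  | add a b _ _ ha hb => rw [map_add]; exact Submodule.add_mem _ ha hb
  | smul c a ha' ha =>
    rw [comp_smul hbΩ hι hc, show (lam * t i * pd bΩ i c) • a = (lam * pd bΩ i c) • t i • a by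
      rw [smul_smul]; congr 1; ring]
    exact Submodule.add_mem _ (Submodule.smul_mem _ _ ha) (Submodule.smul_mem _ _ (hti a ha'))

theorem compProd_mem_spanPiece (hbΩ : ∀ i, bΩ i = KaehlerDifferential.D A B (t i))
    (hι : ∀ i, ι (KaehlerDifferential.D A B (t i)) = t i • ω i)
    (hc : Conn.IsLamConn (ι.compDer (KaehlerDifferential.D A B)) lam nabla)
    {G : Set E} (hG : Submodule.span B G = ⊤) (J : Finset (Fin n)) (e : E) :
    LogConn.compProd nabla ω J e ∈ spanPiece t ω nabla G J := by
  induction J using Finset.induction_on_min with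
  | empty =>
    have he : e ∈ Submodule.span B G := hG ▸ Submodule.mem_top
    have h0 : ∀ g ∈ G, g ∈ spanPiece t ω nabla G ∅ := fun g hg => by
      have := mem_spanPiece (t := t) (ω := ω) (nabla := nabla) (J := ∅) (Finset.Subset.refl _) hg
      simpa [LogConn.compProd] using this
    have h1 := Submodule.span_le.2 h0 he
    simpa [LogConn.compProd] using h1
  | insert i J hlt ih =>
    rw [compProd_insert nabla ω hlt]
    exact comp_mem_spanPiece hbΩ hι hc hlt ih

theorem prod_smul_mem_piece {I J : Finset (Fin n)} (h : J ⊆ I) {x : E}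
    (hx : x ∈ LogConn.piece nabla ω t J) : (∏ i ∈ I \ J, t i) • x ∈ LogConn.piece nabla ω t I := by
  have hle : LogConn.piece nabla ω t J ≤
      (LogConn.piece nabla ω t I).comap ((LinearMap.lsmul B E (∏ i ∈ I \ J, t i)).restrictScalars A) := by
    refine iSup₂_le fun J' hJ' => ?_
    rintro _ ⟨e, rfl⟩
    rw [Finset.mem_powerset] at hJ'
    refine Submodule.mem_iSup_of_mem J' (Submodule.mem_iSup_of_mem (Finset.mem_powerset.2 (hJ'.trans h)) ⟨e, ?_⟩)
    show (∏ i ∈ I \ J', t i) • LogConn.compProd nabla ω J' e =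
      (∏ i ∈ I \ J, t i) • (∏ i ∈ J \ J', t i) • LogConn.compProd nabla ω J' e
    rw [smul_smul, ← Finset.prod_union (Finset.sdiff_disjoint.mono_right Finset.sdiff_subset)]
    congr 2
    ext a
    simp only [Finset.mem_sdiff, Finset.mem_union]
    constructor
    · rintro ⟨ha, ha'⟩
      by_cases haJ : a ∈ J
      · exact Or.inr ⟨haJ, ha'⟩
      · exact Or.inl ⟨ha, haJ⟩
    · rintro (⟨ha, ha'⟩ | ⟨ha, ha'⟩)
      exacts [⟨ha, fun h' => ha' (hJ' h')⟩, ⟨h ha, ha'⟩]
  exact hle hx

theorem comp_mem_piece (hbΩ : ∀ i, bΩ i = KaehlerDifferential.D A B (t i))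
    (hι : ∀ i, ι (KaehlerDifferential.D A B (t i)) = t i • ω i)
    (hc : Conn.IsLamConn (ι.compDer (KaehlerDifferential.D A B)) lam nabla)
    {i : Fin n} {J : Finset (Fin n)} (hlt : ∀ j ∈ J, i < j) {x : E}
    (hx : x ∈ LogConn.piece nabla ω t J) :
    LogConn.comp nabla ω i x ∈ LogConn.piece nabla ω t (insert i J) := by
  have hi : i ∉ J := fun h => lt_irrefl _ (hlt i h)
  have hle : LogConn.piece nabla ω t J ≤ (LogConn.piece nabla ω t (insert i J)).comap (LogConn.comp nabla ω i) := by
    refine iSup₂_le fun J' hJ' => ?_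
    rintro _ ⟨e, rfl⟩
    rw [Finset.mem_powerset] at hJ'
    refine Submodule.mem_iSup_of_mem (insert i J')
      (Submodule.mem_iSup_of_mem (Finset.mem_powerset.2 (Finset.insert_subset_insert i hJ')) ⟨e, ?_⟩)
    show (∏ j ∈ insert i J \ insert i J', t j) • LogConn.compProd nabla ω (insert i J') e =
      LogConn.comp nabla ω i ((∏ j ∈ J \ J', t j) • LogConn.compProd nabla ω J' e)
    rw [comp_smul hbΩ hι hc, pd_prod hbΩ (fun h => hi (Finset.mem_sdiff.1 h).1), mul_zero, zero_smul,
      add_zero, ← compProd_insert nabla ω (fun j hj => hlt j (hJ' hj))]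
    congr 2
    ext a
    simp only [Finset.mem_sdiff, Finset.mem_insert]
    constructor
    · rintro ⟨ha, ha'⟩
      exact ⟨ha.resolve_left fun e => ha' (Or.inl e), fun h => ha' (Or.inr h)⟩
    · rintro ⟨ha, ha'⟩
      exact ⟨Or.inr ha, fun h => h.elim (fun e => hi (e ▸ ha)) ha'⟩
  exact hle hx

theorem smul_compProd_mem_piece (hbΩ : ∀ i, bΩ i = KaehlerDifferential.D A B (t i))
    (hι : ∀ i, ι (KaehlerDifferential.D A B (t i)) = t i • ω i)
    (hc : Conn.IsLamConn (ι.compDer (KaehlerDifferential.D A B)) lam nabla)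
    (J : Finset (Fin n)) (b : B) (e : E) :
    b • LogConn.compProd nabla ω J e ∈ LogConn.piece nabla ω t J := by
  induction J using Finset.induction_on_min generalizing b with
  | empty =>
    refine Submodule.mem_iSup_of_mem ∅ (Submodule.mem_iSup_of_mem (Finset.empty_mem_powerset _) ⟨b • e, ?_⟩)
    simp [LogConn.compProd]
  | insert i J hlt ih =>
    have hi : i ∉ J := fun h => lt_irrefl _ (hlt i h)
    rw [compProd_insert nabla ω hlt]
    have key : b • LogConn.comp nabla ω i (LogConn.compProd nabla ω J e) =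
        LogConn.comp nabla ω i (b • LogConn.compProd nabla ω J e) -
          t i • ((lam * pd bΩ i b) • LogConn.compProd nabla ω J e) := by
      rw [comp_smul hbΩ hι hc i b, smul_smul, show t i * (lam * pd bΩ i b) = lam * t i * pd bΩ i b by ring,
        add_sub_cancel_right]
    rw [key]
    refine Submodule.sub_mem _ (comp_mem_piece hbΩ hι hc hlt (ih b)) ?_
    have := prod_smul_mem_piece (Finset.subset_insert i J) (ih (lam * pd bΩ i b))
    rwa [Finset.insert_sdiff_of_notMem _ hi, Finset.sdiff_self, insert_empty_eq, Finset.prod_singleton] at this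

theorem piece_eq (hbΩ : ∀ i, bΩ i = KaehlerDifferential.D A B (t i))
    (hι : ∀ i, ι (KaehlerDifferential.D A B (t i)) = t i • ω i)
    (hc : Conn.IsLamConn (ι.compDer (KaehlerDifferential.D A B)) lam nabla)
    {G : Set E} (hG : Submodule.span B G = ⊤) (I : Finset (Fin n)) :
    LogConn.piece nabla ω t I = (spanPiece t ω nabla G I).restrictScalars A := by
  apply le_antisymm
  · refine iSup₂_le fun J hJ => ?_
    rintro _ ⟨e, rfl⟩
    exact prod_smul_mem_spanPiece (Finset.mem_powerset.1 hJ) (compProd_mem_spanPiece hbΩ hι hc hG J e)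
  · intro x hx
    suffices ∀ (b : B), b • x ∈ LogConn.piece nabla ω t I by simpa using this 1
    rw [Submodule.restrictScalars_mem] at hx
    induction hx using Submodule.span_induction with
    | mem y hy =>
      intro b
      obtain ⟨J, hJ, g, hg, rfl⟩ := Set.mem_iUnion₂.1 hy
      rw [smul_comm]
      exact prod_smul_mem_piece (Finset.mem_powerset.1 hJ) (smul_compProd_mem_piece hbΩ hι hc J b g)
    | zero => intro b; rw [smul_zero]; exact Submodule.zero_mem _
    | add a c _ _ ha hc' => intro b; rw [smul_add]; exact Submodule.add_mem _ (ha b) (hc' b)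
    | smul c a _ ha => intro b; rw [smul_smul]; exact ha _

theorem smul_mem_piece (hbΩ : ∀ i, bΩ i = KaehlerDifferential.D A B (t i))
    (hι : ∀ i, ι (KaehlerDifferential.D A B (t i)) = t i • ω i)
    (hc : Conn.IsLamConn (ι.compDer (KaehlerDifferential.D A B)) lam nabla)
    (I : Finset (Fin n)) (b : B) {x : E} (hx : x ∈ LogConn.piece nabla ω t I) :
    b • x ∈ LogConn.piece nabla ω t I := by
  rw [piece_eq hbΩ hι hc (G := Set.univ) (by simp) I, Submodule.restrictScalars_mem] at hx ⊢
  exact Submodule.smul_mem _ b hx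

end Groth.Agent.LogConnH7
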