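import Groth.Agent.Lib.LogConnH7.Basic
import Groth.Prelude.Def_LogDiff

/-!
# Integrable log lambda-connections
-/

set_option autoImplicit false

universe v u

open TensorProduct Finset

namespace Groth.Agent.LogConnH7

variable {A : Type v} {B L E : Type u} [CommRing A] [CommRing B] [Algebra A B]
  [AddCommGroup L] [Module B L] [Module A L] [IsScalarTower A B L]
  [AddCommGroup E] [Module B E] [Module A E] [IsScalarTower A B E]
  {lam : B} {n : ℕ} {t : Fin n → B} {bΩ : Module.Basis (Fin n) B (KaehlerDifferential A B)}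
  {ω : Module.Basis (Fin n) B L} {ι : KaehlerDifferential A B →ₗ[B] L}
  {nabla : E →ₗ[A] E ⊗[B] L}
  {d : ∀ p : ℕ, ↥(⋀[B]^p L) →ₗ[A] ↥(⋀[B]^(p + 1) L)}
  {nablas : ∀ p : ℕ, E ⊗[B] ↥(⋀[B]^p L) →ₗ[A] E ⊗[B] ↥(⋀[B]^(p + 1) L)}

theorem nabla_eq_sum (ω : Module.Basis (Fin n) B L) (nabla : E →ₗ[A] E ⊗[B] L) (e : E) :
    nabla e = ∑ j, LogConn.comp nabla ω j e ⊗ₜ[B] ω j := by
  have h : ∀ z : E ⊗[B] L, z = ∑ j, TensorProduct.rid B E (TensorProduct.map LinearMap.id (ω.coord j) z) ⊗ₜ[B] ω j := by
    intro z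
    induction z using TensorProduct.induction_on with
    | zero => simp
    | add a b ha hb =>
      conv_lhs => rw [ha, hb]
      rw [← Finset.sum_add_distrib]
      exact Finset.sum_congr rfl fun j _ => by rw [map_add, map_add, TensorProduct.add_tmul]
    | tmul m l =>
      conv_lhs => rw [← ω.sum_repr l, TensorProduct.tmul_sum]
      exact Finset.sum_congr rfl fun j _ => by simp [TensorProduct.smul_tmul]
  conv_lhs => rw [h (nabla e)]
  rfl

theorem oneEquiv_symm_eq (l : L) :
    (exteriorPower.oneEquiv B L).symm l = exteriorPower.ιMulti B 1 (fun _ => l) :=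
  (LinearEquiv.symm_apply_eq _).2 (exteriorPower.oneEquiv_ιMulti (R := B) (fun _ : Fin 1 => l)).symm

theorem twedge_toOne (q : ℕ) (m : E) (l : L) (v : Fin q → L) :
    Conn.twedge (M := E) q (Conn.toOne (m ⊗ₜ[B] l)) (exteriorPower.ιMulti B q v) =
      m ⊗ₜ[B] exteriorPower.ιMulti B (q + 1) (Fin.cons l v) := by
  rw [Conn.toOne_tmul, Conn.twedge_tmul, oneEquiv_symm_eq]
  congr 1
  refine Subtype.ext ?_
  rw [Conn.wedge_apply_coe, exteriorPower.ιMulti_apply_coe, exteriorPower.ιMulti_apply_coe,
    exteriorPower.ιMulti_apply_coe, ExteriorAlgebra.ιMulti_succ_apply, ExteriorAlgebra.ιMulti_succ_apply,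
    ExteriorAlgebra.ιMulti_zero_apply, mul_one, Fin.cons_zero]
  congr 2

theorem d_omega (hd : LogDiff.IsLogRule (KaehlerDifferential.D A B) ι (⇑ω) d) (q : ℕ) (k : Fin q → Fin n) :
    d q (exteriorPower.ιMulti B q (fun a => ω (k a))) = 0 := by
  have h := hd q 1 (fun a => ω (k a)) fun a => Or.inr ⟨k a, rfl⟩
  rw [one_smul] at h
  rw [h, Derivation.map_one_eq_zero, map_zero]
  exact AlternatingMap.map_coord_zero _ 0 (Fin.cons_zero _ _)

theorem nablas_omega (hcx : Conn.IsCxRule nabla (fun p => lam • d p) nablas) (q : ℕ) (m : E) (k : Fin q → Fin n)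
    (hzero : d q (exteriorPower.ιMulti B q (fun a => ω (k a))) = 0) :
    nablas q (m ⊗ₜ[B] exteriorPower.ιMulti B q (fun a => ω (k a))) =
      ∑ i, LogConn.comp nabla ω i m ⊗ₜ[B]
        exteriorPower.ιMulti B (q + 1) (fun a => ω ((Fin.cons i k : Fin (q + 1) → Fin n) a)) := by
  rw [hcx]
  have hz : (fun p => lam • d p) q (exteriorPower.ιMulti B q (fun a => ω (k a))) = 0 := by
    show lam • d q _ = 0
    rw [hzero, smul_zero]
  rw [hz, TensorProduct.tmul_zero, add_zero, nabla_eq_sum ω nabla m, map_sum, map_sum, LinearMap.sum_apply]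
  refine Finset.sum_congr rfl fun i _ => ?_
  rw [twedge_toOne]
  congr 2
  funext a
  refine Fin.cases ?_ (fun b => ?_) a
  · simp
  · simp

/-- The determinant coordinate of a wedge. -/
theorem coordE_tmul_ιMulti (q : ℕ) (K : Set.powersetCard (Fin n) q) (m : E) (v : Fin q → L) :
    LogConn.coordE ω q K (m ⊗ₜ[B] exteriorPower.ιMulti B q v) =
      (Matrix.of fun i j => ω.coord (Set.powersetCard.ofFinEmbEquiv.symm K j) (v i)).det • m := by
  simp only [LogConn.coordE, LinearMap.coe_comp, Function.comp_apply, TensorProduct.map_tmul,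
    LinearMap.id_apply, LinearEquiv.coe_coe, TensorProduct.rid_tmul, exteriorPower.basis_coord,
    exteriorPower.ιMultiDual_apply_ιMulti]

theorem det_omega_eq_zero (q : ℕ) (K : Set.powersetCard (Fin n) q) (k : Fin q → Fin n)
    (a : Fin q) (ha : k a ∉ (K : Finset (Fin n))) :
    (Matrix.of fun i j => ω.coord (Set.powersetCard.ofFinEmbEquiv.symm K j) (ω (k i))).det = 0 := by
  refine Matrix.det_eq_zero_of_row_eq_zero a fun j => ?_
  rw [Matrix.of_apply, Module.Basis.coord_apply, Module.Basis.repr_self, Finsupp.single_eq_of_ne]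
  intro h
  exact ha (by rw [← h]; exact (Set.powersetCard.mem_range_ofFinEmbEquiv_symm_iff_mem K _).1 ⟨j, rfl⟩)

theorem comp_comm (hd1 : ∀ j, d 1 (exteriorPower.ιMulti B 1 (fun _ => ω j)) = 0)
    (hint : Conn.IsIntegrable nabla (fun p => lam • d p) nablas) (i j : Fin n) (e : E) :
    LogConn.comp nabla ω i (LogConn.comp nabla ω j e) = LogConn.comp nabla ω j (LogConn.comp nabla ω i e) := by
  rcases eq_or_ne i j with rfl | hij
  · rfl
  wlog hlt : i < j generalizing i j
  · exact (this j i hij.symm (lt_of_le_of_ne (not_lt.1 hlt) hij.symm)).symm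
  have hK : ({i, j} : Finset (Fin n)).card = 2 := Finset.card_pair hij
  let K : Set.powersetCard (Fin n) 2 := ⟨{i, j}, hK⟩
  have h0 := congrArg (LogConn.coordE ω 2 K) (hint.2 e)
  rw [map_zero, nabla_eq_sum ω nabla e, map_sum, map_sum, map_sum] at h0
  have hterm : ∀ b : Fin n, LogConn.coordE ω 2 K (nablas 1 (Conn.toOne (LogConn.comp nabla ω b e ⊗ₜ[B] ω b))) =
      ∑ a, (Matrix.of fun x y => ω.coord (Set.powersetCard.ofFinEmbEquiv.symm K y)
        (ω ((Fin.cons a (fun _ => b) : Fin 2 → Fin n) x))).det • LogConn.comp nabla ω a (LogConn.comp nabla ω b e) := by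
    intro b
    rw [Conn.toOne_tmul, oneEquiv_symm_eq, nablas_omega hint.1 1 _ (fun _ => b) (hd1 b), map_sum]
    exact Finset.sum_congr rfl fun a _ => coordE_tmul_ιMulti 2 K _ _
  rw [Finset.sum_congr rfl fun b _ => hterm b] at h0
  have hk0 : Set.powersetCard.ofFinEmbEquiv.symm K 0 = i ∧ Set.powersetCard.ofFinEmbEquiv.symm K 1 = j := by
    set kk := Set.powersetCard.ofFinEmbEquiv.symm K with hkk
    have hm : ∀ a, kk a = i ∨ kk a = j := fun a => by
      have := (Set.powersetCard.mem_range_ofFinEmbEquiv_symm_iff_mem K (kk a)).1 ⟨a, rfl⟩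
      simpa [K, ← Set.powersetCard.mem_coe_iff] using this
    have hlt' : kk 0 < kk 1 := kk.strictMono (by decide)
    rcases hm 0 with h | h <;> rcases hm 1 with h' | h' <;> rw [h, h'] at hlt'
    · exact absurd hlt' (lt_irrefl _)
    · exact ⟨h, h'⟩
    · exact absurd hlt' (lt_asymm hlt)
    · exact absurd hlt' (lt_irrefl _)
  have hdet : ∀ a b : Fin n, (Matrix.of fun x y => ω.coord (Set.powersetCard.ofFinEmbEquiv.symm K y)
      (ω ((Fin.cons a (fun _ => b) : Fin 2 → Fin n) x))).det =
      (if a = i ∧ b = j then (1 : B) else 0) - (if a = j ∧ b = i then 1 else 0) := by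
    intro a b
    clear h0 hterm
    refine (Matrix.det_fin_two _).trans ?_
    simp only [Matrix.of_apply, hk0.1, hk0.2, Module.Basis.coord_apply, Module.Basis.repr_self, Finsupp.single_apply]
    have h1 : (Fin.cons a (fun _ => b) : Fin 2 → Fin n) 1 = b := rfl
    rw [h1, Fin.cons_zero]
    have hji : ¬ j = i := hij.symm
    by_cases h2 : a = i <;> by_cases h3 : b = j <;> by_cases h4 : a = j <;> by_cases h5 : b = i <;>
      simp [h2, h3, h4, h5, hij, hji] <;> omega
  simp only [hdet, sub_smul, Finset.sum_sub_distrib] at h0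
  simp only [ite_and, ite_smul, one_smul, zero_smul, Finset.sum_ite_eq', Finset.sum_ite_irrel, Finset.sum_const_zero,
    Finset.mem_univ, if_true] at h0
  exact sub_eq_zero.1 h0

theorem compProd_insert_comm (hcomm : ∀ i j e, LogConn.comp nabla ω i (LogConn.comp nabla ω j e) =
      LogConn.comp nabla ω j (LogConn.comp nabla ω i e)) {i : Fin n} {J : Finset (Fin n)} (hi : i ∉ J) (e : E) :
    LogConn.compProd nabla ω (insert i J) e = LogConn.comp nabla ω i (LogConn.compProd nabla ω J e) := by
  have key : ∀ l₁ l₂ : List (Fin n), l₁.Perm l₂ →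
      l₁.foldr (fun i φ => LogConn.comp nabla ω i ∘ₗ φ) LinearMap.id =
        l₂.foldr (fun i φ => LogConn.comp nabla ω i ∘ₗ φ) (LinearMap.id : E →ₗ[A] E) := by
    intro l₁ l₂ h
    refine h.foldr_eq' ?_ _
    intro x _ y _ z
    exact LinearMap.ext fun w => (hcomm y x (z w))
  rw [LogConn.compProd, LogConn.compProd, key ((insert i J).sort (· ≤ ·)) (i :: J.sort (· ≤ ·)) ?_]
  · rfl
  · rw [← Multiset.coe_eq_coe, Finset.sort_eq, ← Multiset.cons_coe, Finset.sort_eq, Finset.insert_val_of_notMem hi]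

theorem comp_commute_compProd (hcomm : ∀ i j e, LogConn.comp nabla ω i (LogConn.comp nabla ω j e) =
      LogConn.comp nabla ω j (LogConn.comp nabla ω i e)) (i : Fin n) (J : Finset (Fin n)) (e : E) :
    LogConn.comp nabla ω i (LogConn.compProd nabla ω J e) = LogConn.compProd nabla ω J (LogConn.comp nabla ω i e) := by
  induction J using Finset.induction_on_min with
  | empty => simp [LogConn.compProd]
  | insert a J hlt ih => rw [compProd_insert nabla ω hlt, compProd_insert nabla ω hlt, hcomm, ih]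

theorem comp_mem_piece_of_notMem (hbΩ : ∀ i, bΩ i = KaehlerDifferential.D A B (t i))
    (hι : ∀ i, ι (KaehlerDifferential.D A B (t i)) = t i • ω i)
    (hc : Conn.IsLamConn (ι.compDer (KaehlerDifferential.D A B)) lam nabla)
    (hcomm : ∀ i j e, LogConn.comp nabla ω i (LogConn.comp nabla ω j e) =
      LogConn.comp nabla ω j (LogConn.comp nabla ω i e))
    {i : Fin n} {J : Finset (Fin n)} (hi : i ∉ J) {x : E} (hx : x ∈ LogConn.piece nabla ω t J) :
    LogConn.comp nabla ω i x ∈ LogConn.piece nabla ω t (insert i J) := by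
  have hle : LogConn.piece nabla ω t J ≤ (LogConn.piece nabla ω t (insert i J)).comap (LogConn.comp nabla ω i) := by
    refine iSup₂_le fun J' hJ' => ?_
    rintro _ ⟨e, rfl⟩
    rw [Finset.mem_powerset] at hJ'
    refine Submodule.mem_iSup_of_mem (insert i J')
      (Submodule.mem_iSup_of_mem (Finset.mem_powerset.2 (Finset.insert_subset_insert i hJ')) ⟨e, ?_⟩)
    show (∏ j ∈ insert i J \ insert i J', t j) • LogConn.compProd nabla ω (insert i J') e =
      LogConn.comp nabla ω i ((∏ j ∈ J \ J', t j) • LogConn.compProd nabla ω J' e)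
    rw [comp_smul hbΩ hι hc, pd_prod hbΩ (fun h => hi (Finset.mem_sdiff.1 h).1), mul_zero, zero_smul,
      add_zero, ← compProd_insert_comm hcomm (fun h => hi (hJ' h))]
    congr 2
    ext a
    simp only [Finset.mem_sdiff, Finset.mem_insert]
    constructor
    · rintro ⟨ha, ha'⟩
      exact ⟨ha.resolve_left fun e => ha' (Or.inl e), fun h => ha' (Or.inr h)⟩
    · rintro ⟨ha, ha'⟩
      exact ⟨Or.inr ha, fun h => h.elim (fun e => hi (e ▸ ha)) ha'⟩
  exact hle hx

theorem piece_insert_le (hbΩ : ∀ i, bΩ i = KaehlerDifferential.D A B (t i))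
    (hι : ∀ i, ι (KaehlerDifferential.D A B (t i)) = t i • ω i)
    (hc : Conn.IsLamConn (ι.compDer (KaehlerDifferential.D A B)) lam nabla)
    (hcomm : ∀ i j e, LogConn.comp nabla ω i (LogConn.comp nabla ω j e) =
      LogConn.comp nabla ω j (LogConn.comp nabla ω i e)) {i : Fin n} {J : Finset (Fin n)} (hi : i ∉ J) :
    LogConn.piece nabla ω t (insert i J) ≤ LogConn.piece nabla ω t J := by
  refine iSup₂_le fun J' hJ' => ?_
  rintro _ ⟨e, rfl⟩
  rw [Finset.mem_powerset] at hJ'
  show (∏ j ∈ insert i J \ J', t j) • LogConn.compProd nabla ω J' e ∈ LogConn.piece nabla ω t J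
  by_cases hiJ : i ∈ J'
  · have hsub : J'.erase i ⊆ J := fun a ha => (Finset.mem_insert.1 (hJ' (Finset.mem_of_mem_erase ha))).resolve_left (Finset.ne_of_mem_erase ha)
    refine Submodule.mem_iSup_of_mem (J'.erase i) (Submodule.mem_iSup_of_mem (Finset.mem_powerset.2 hsub)
      ⟨LogConn.comp nabla ω i e, ?_⟩)
    show (∏ j ∈ J \ J'.erase i, t j) • LogConn.compProd nabla ω (J'.erase i) (LogConn.comp nabla ω i e) = _
    rw [← comp_commute_compProd hcomm, ← compProd_insert_comm hcomm (Finset.notMem_erase i J'), Finset.insert_erase hiJ]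
    congr 2
    ext a
    simp only [Finset.mem_sdiff, Finset.mem_insert, Finset.mem_erase]
    constructor
    · rintro ⟨ha, ha'⟩
      exact ⟨Or.inr ha, fun h => ha' ⟨fun e => hi (e ▸ ha), h⟩⟩
    · rintro ⟨ha, ha'⟩
      exact ⟨ha.resolve_left fun e => ha' (e ▸ hiJ), fun h => ha' h.2⟩
  · have hsub : J' ⊆ J := fun a ha => (Finset.mem_insert.1 (hJ' ha)).resolve_left fun e => hiJ (e ▸ ha)
    rw [Finset.insert_sdiff_of_notMem _ hiJ, Finset.prod_insert (fun h => hi (Finset.mem_sdiff.1 h).1), mul_smul]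
    exact smul_mem_piece hbΩ hι hc J _ (Submodule.mem_iSup_of_mem J' (Submodule.mem_iSup_of_mem (Finset.mem_powerset.2 hsub) ⟨e, rfl⟩))

theorem piece_anti (hbΩ : ∀ i, bΩ i = KaehlerDifferential.D A B (t i))
    (hι : ∀ i, ι (KaehlerDifferential.D A B (t i)) = t i • ω i)
    (hc : Conn.IsLamConn (ι.compDer (KaehlerDifferential.D A B)) lam nabla)
    (hcomm : ∀ i j e, LogConn.comp nabla ω i (LogConn.comp nabla ω j e) =
      LogConn.comp nabla ω j (LogConn.comp nabla ω i e)) {S K : Finset (Fin n)} (h : S ⊆ K) :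
    LogConn.piece nabla ω t K ≤ LogConn.piece nabla ω t S := by
  have key : ∀ T : Finset (Fin n), Disjoint T S → LogConn.piece nabla ω t (T ∪ S) ≤ LogConn.piece nabla ω t S := by
    intro T
    induction T using Finset.induction_on with
    | empty => intro _; rw [Finset.empty_union]
    | @insert a T ha ih =>
      intro hd'
      rw [Finset.disjoint_insert_left] at hd'
      rw [Finset.insert_union]
      exact (piece_insert_le hbΩ hι hc hcomm (fun hm => (Finset.mem_union.1 hm).elim ha hd'.1)).trans (ih hd'.2)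
  have := key (K \ S) Finset.sdiff_disjoint
  rwa [Finset.sdiff_union_of_subset h] at this

theorem comp_mem_piece_of_mem (hbΩ : ∀ i, bΩ i = KaehlerDifferential.D A B (t i))
    (hι : ∀ i, ι (KaehlerDifferential.D A B (t i)) = t i • ω i)
    (hc : Conn.IsLamConn (ι.compDer (KaehlerDifferential.D A B)) lam nabla)
    (hcomm : ∀ i j e, LogConn.comp nabla ω i (LogConn.comp nabla ω j e) =
      LogConn.comp nabla ω j (LogConn.comp nabla ω i e))
    {i : Fin n} {J : Finset (Fin n)} (hi : i ∈ J) {x : E} (hx : x ∈ LogConn.piece nabla ω t J) :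
    LogConn.comp nabla ω i x ∈ LogConn.piece nabla ω t J := by
  have hle : LogConn.piece nabla ω t J ≤ (LogConn.piece nabla ω t J).comap (LogConn.comp nabla ω i) := by
    refine iSup₂_le fun J' hJ' => ?_
    rintro _ ⟨e, rfl⟩
    rw [Finset.mem_powerset] at hJ'
    show LogConn.comp nabla ω i ((∏ j ∈ J \ J', t j) • LogConn.compProd nabla ω J' e) ∈ LogConn.piece nabla ω t J
    rw [comp_smul hbΩ hι hc]
    have hgen : ∀ e', (∏ j ∈ J \ J', t j) • LogConn.compProd nabla ω J' e' ∈ LogConn.piece nabla ω t J := fun e' =>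
      Submodule.mem_iSup_of_mem J' (Submodule.mem_iSup_of_mem (Finset.mem_powerset.2 hJ') ⟨e', rfl⟩)
    refine Submodule.add_mem _ (by rw [comp_commute_compProd hcomm]; exact hgen _) ?_
    by_cases hiJ : i ∈ J \ J'
    · rw [← Finset.mul_prod_erase _ t hiJ, Derivation.leibniz, pd_prod hbΩ (Finset.notMem_erase i _), smul_zero, zero_add,
        smul_eq_mul, show lam * t i * ((∏ j ∈ (J \ J').erase i, t j) * pd bΩ i (t i)) =
          lam * pd bΩ i (t i) * (t i * ∏ j ∈ (J \ J').erase i, t j) by ring, Finset.mul_prod_erase _ t hiJ, mul_smul]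
      exact smul_mem_piece hbΩ hι hc J _ (hgen e)
    · rw [pd_prod hbΩ hiJ, mul_zero, zero_smul]
      exact Submodule.zero_mem _
  exact hle hx

theorem nablas_mem_layer (hbΩ : ∀ i, bΩ i = KaehlerDifferential.D A B (t i))
    (hι : ∀ i, ι (KaehlerDifferential.D A B (t i)) = t i • ω i)
    (hc : Conn.IsLamConn (ι.compDer (KaehlerDifferential.D A B)) lam nabla)
    (hd : LogDiff.IsLogRule (KaehlerDifferential.D A B) ι (⇑ω) d)
    (hint : Conn.IsIntegrable nabla (fun p => lam • d p) nablas)
    (p : ℕ) (x : E ⊗[B] ↥(⋀[B]^p L)) (hx : x ∈ LogConn.layer nabla ω t p) :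
    nablas p x ∈ LogConn.layer nabla ω t (p + 1) := by
  classical
  have hcomm := comp_comm (fun j => d_omega hd 1 fun _ => j) hint
  have hdec : x = ∑ K : Set.powersetCard (Fin n) p, LogConn.coordE ω p K x ⊗ₜ[B] (ω.exteriorPower p K) := by
    clear hx
    induction x using TensorProduct.induction_on with
    | zero => simp
    | add a b ha hb =>
      conv_lhs => rw [ha, hb]
      rw [← Finset.sum_add_distrib]
      exact Finset.sum_congr rfl fun K _ => by rw [map_add, TensorProduct.add_tmul]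
    | tmul e η =>
      conv_lhs => rw [← (ω.exteriorPower p).sum_repr η, TensorProduct.tmul_sum]
      exact Finset.sum_congr rfl fun K _ => by simp [LogConn.coordE, TensorProduct.smul_tmul]
  simp only [LogConn.layer, Submodule.mem_iInf, Submodule.mem_comap, LinearMap.coe_restrictScalars] at hx ⊢
  intro K'
  rw [hdec, map_sum, map_sum]
  refine Submodule.sum_mem _ fun K _ => ?_
  rw [exteriorPower.basis_apply, exteriorPower.ιMulti_family]
  set kk := Set.powersetCard.ofFinEmbEquiv.symm K with hkk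
  rw [show (⇑ω ∘ ⇑kk) = fun a => ω (kk a) from rfl, nablas_omega hint.1 _ _ _ (d_omega hd _ _), map_sum]
  refine Submodule.sum_mem _ fun i _ => ?_
  rw [coordE_tmul_ιMulti]
  by_cases hex : ∃ a, (Fin.cons i kk : Fin (p + 1) → Fin n) a ∉ (K' : Finset (Fin n))
  · obtain ⟨a, ha⟩ := hex
    rw [det_omega_eq_zero _ _ _ a ha, zero_smul]
    exact Submodule.zero_mem _
  push Not at hex
  by_cases hiK : i ∈ (K : Finset (Fin n))
  · obtain ⟨a, ha⟩ := (Set.powersetCard.mem_range_ofFinEmbEquiv_symm_iff_mem K i).2 hiK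
    rw [Matrix.det_zero_of_row_eq (i := 0) (j := Fin.succ a) (Fin.succ_ne_zero a).symm
      (by funext y; simp [hkk, ha]), zero_smul]
    exact Submodule.zero_mem _
  · have hK' : (K' : Finset (Fin n)) = insert i (K : Finset (Fin n)) := by
      refine (Finset.eq_of_subset_of_card_le (fun b hb => ?_) ?_).symm
      · rcases Finset.mem_insert.1 hb with rfl | hb
        · simpa using hex 0
        · obtain ⟨a, ha⟩ := (Set.powersetCard.mem_range_ofFinEmbEquiv_symm_iff_mem K b).2 hb
          have := hex (Fin.succ a)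
          rw [Fin.cons_succ, hkk, ha] at this
          exact this
      · rw [Finset.card_insert_of_notMem hiK, Set.powersetCard.mem_iff.1 K.2, Set.powersetCard.mem_iff.1 K'.2]
    rw [hK']
    exact smul_mem_piece hbΩ hι hc _ _ (comp_mem_piece_of_notMem hbΩ hι hc hcomm hiK (hx K))

theorem piece_coord_le (hbΩ : ∀ i, bΩ i = KaehlerDifferential.D A B (t i))
    (hι : ∀ i, ι (KaehlerDifferential.D A B (t i)) = t i • ω i)
    (hc : Conn.IsLamConn (ι.compDer (KaehlerDifferential.D A B)) lam nabla)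
    (hcomm : ∀ i j e, LogConn.comp nabla ω i (LogConn.comp nabla ω j e) =
      LogConn.comp nabla ω j (LogConn.comp nabla ω i e))
    (ω' : Module.Basis (Fin n) B L) (t' : Fin n → B) (ht : ∀ i, ∃ b, t' i = b * t i)
    (hω : ∀ i j, ∃ b, ω'.coord i (ω j) = (if j = i then 1 else 0) + t i * b) (K : Finset (Fin n)) :
    LogConn.piece nabla ω' t' K ≤ LogConn.piece nabla ω t K := by
  choose b hb using hω
  have hcomp : ∀ i x, LogConn.comp nabla ω' i x = LogConn.comp nabla ω i x + ∑ j, (t i * b i j) • LogConn.comp nabla ω j x := by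
    intro i x
    conv_lhs => rw [LogConn.comp, Conn.along_apply, nabla_eq_sum ω nabla x, map_sum, map_sum]
    simp only [TensorProduct.map_tmul, TensorProduct.rid_tmul, LinearMap.id_apply, hb, add_smul, Finset.sum_add_distrib,
      ite_smul, one_smul, zero_smul, Finset.sum_ite_eq', Finset.mem_univ, if_true]
  have hgen : ∀ J e, LogConn.compProd nabla ω' J e ∈ LogConn.piece nabla ω t J := by
    intro J e
    induction J using Finset.induction_on_min with
    | empty =>
      refine Submodule.mem_iSup_of_mem ∅ (Submodule.mem_iSup_of_mem (Finset.empty_mem_powerset _) ⟨e, ?_⟩)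
      simp [LogConn.compProd]
    | insert i J hlt ih =>
      have hi : i ∉ J := fun h => lt_irrefl _ (hlt i h)
      rw [compProd_insert nabla ω' hlt, hcomp]
      refine Submodule.add_mem _ (comp_mem_piece_of_notMem hbΩ hι hc hcomm hi ih) (Submodule.sum_mem _ fun j _ => ?_)
      have hj : LogConn.comp nabla ω j (LogConn.compProd nabla ω' J e) ∈ LogConn.piece nabla ω t J := by
        by_cases hjJ : j ∈ J
        · exact comp_mem_piece_of_mem hbΩ hι hc hcomm hjJ ih
        · exact piece_insert_le hbΩ hι hc hcomm hjJ (comp_mem_piece_of_notMem hbΩ hι hc hcomm hjJ ih)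
      have := prod_smul_mem_piece (Finset.subset_insert i J) (smul_mem_piece hbΩ hι hc J (b i j) hj)
      rwa [Finset.insert_sdiff_of_notMem _ hi, Finset.sdiff_self, insert_empty_eq, Finset.prod_singleton, smul_smul] at this
  refine iSup₂_le fun J hJ => ?_
  rintro _ ⟨e, rfl⟩
  rw [Finset.mem_powerset] at hJ
  show (∏ i ∈ K \ J, t' i) • LogConn.compProd nabla ω' J e ∈ LogConn.piece nabla ω t K
  choose c hc' using ht
  rw [Finset.prod_congr rfl fun i _ => hc' i, Finset.prod_mul_distrib, mul_smul]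
  exact smul_mem_piece hbΩ hι hc K _ (prod_smul_mem_piece hJ (hgen J e))

theorem layer_coord_le (hbΩ : ∀ i, bΩ i = KaehlerDifferential.D A B (t i))
    (hι : ∀ i, ι (KaehlerDifferential.D A B (t i)) = t i • ω i)
    (hc : Conn.IsLamConn (ι.compDer (KaehlerDifferential.D A B)) lam nabla)
    (hcomm : ∀ i j e, LogConn.comp nabla ω i (LogConn.comp nabla ω j e) =
      LogConn.comp nabla ω j (LogConn.comp nabla ω i e))
    (ω' : Module.Basis (Fin n) B L) (t' : Fin n → B)
    (hpiece : ∀ K, LogConn.piece nabla ω t K = LogConn.piece nabla ω' t' K)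
    (hω : ∀ i j, ∃ b, ω'.coord i (ω j) = (if j = i then 1 else 0) + t i * b) (p : ℕ) :
    LogConn.layer nabla ω t p ≤ LogConn.layer nabla ω' t' p := by
  classical
  intro x hx
  have hdec : x = ∑ K : Set.powersetCard (Fin n) p, LogConn.coordE ω p K x ⊗ₜ[B] (ω.exteriorPower p K) := by
    clear hx
    induction x using TensorProduct.induction_on with
    | zero => simp
    | add a b ha hb =>
      conv_lhs => rw [ha, hb]
      rw [← Finset.sum_add_distrib]
      exact Finset.sum_congr rfl fun K _ => by rw [map_add, TensorProduct.add_tmul]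
    | tmul e η =>
      conv_lhs => rw [← (ω.exteriorPower p).sum_repr η, TensorProduct.tmul_sum]
      exact Finset.sum_congr rfl fun K _ => by simp [LogConn.coordE, TensorProduct.smul_tmul]
  choose b hb using hω
  simp only [LogConn.layer, Submodule.mem_iInf, Submodule.mem_comap, LinearMap.coe_restrictScalars] at hx ⊢
  intro K'
  rw [← hpiece, hdec, map_sum]
  refine Submodule.sum_mem _ fun K _ => ?_
  rw [exteriorPower.basis_apply, exteriorPower.ιMulti_family, coordE_tmul_ιMulti, Matrix.det_apply, Finset.sum_smul]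
  refine Submodule.sum_mem _ fun σ _ => ?_
  rw [smul_assoc]
  refine zsmul_mem ?_ _
  set kk := Set.powersetCard.ofFinEmbEquiv.symm K with hkk
  set kk' := Set.powersetCard.ofFinEmbEquiv.symm K' with hkk'
  simp only [Matrix.of_apply, Function.comp_apply, hb, Finset.prod_add, Finset.sum_smul]
  refine Submodule.sum_mem _ fun T hT => ?_
  by_cases hT0 : ∀ c ∈ T, kk (σ c) = kk' c
  · rw [Finset.prod_eq_one (fun c hc' => if_pos (hT0 c hc')), one_mul, Finset.prod_mul_distrib]
    have hSK : T.map kk'.toEmbedding ⊆ (K : Finset (Fin n)) := fun a ha => by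
      obtain ⟨c, hc', rfl⟩ := Finset.mem_map.1 ha
      exact (Set.powersetCard.mem_range_ofFinEmbEquiv_symm_iff_mem K _).1 ⟨σ c, hT0 c hc'⟩
    have hK' : (K' : Finset (Fin n)) = (Finset.univ : Finset (Fin p)).map kk'.toEmbedding := by
      ext a
      rw [Finset.mem_map]
      simp only [Finset.mem_univ, true_and]
      exact (Set.powersetCard.mem_range_ofFinEmbEquiv_symm_iff_mem K' a).symm
    have hSK' : T.map kk'.toEmbedding ⊆ (K' : Finset (Fin n)) := by
      rw [hK']; exact Finset.map_subset_map.2 (Finset.subset_univ _)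
    have hm : LogConn.coordE ω p K x ∈ LogConn.piece nabla ω t (T.map kk'.toEmbedding) :=
      piece_anti hbΩ hι hc hcomm hSK (hx K)
    have h2 := prod_smul_mem_piece hSK' hm
    rw [hK', ← Finset.map_sdiff, Finset.prod_map, ← hK'] at h2
    rw [mul_comm, mul_smul]
    exact smul_mem_piece hbΩ hι hc _ _ h2
  · push Not at hT0
    obtain ⟨c, hc', hne⟩ := hT0
    rw [Finset.prod_eq_zero hc' (if_neg hne), zero_mul, zero_smul]
    exact Submodule.zero_mem _

theorem d_omega_change (hd : LogDiff.IsLogRule (KaehlerDifferential.D A B) ι (⇑ω) d) (j : Fin n) (u : Bˣ) :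
    d 1 (exteriorPower.ιMulti B 1 (fun _ => ω j + ((u⁻¹ : Bˣ) : B) • ι (KaehlerDifferential.D A B (u : B)))) = 0 := by
  rw [← oneEquiv_symm_eq, map_add, map_smul, map_add, oneEquiv_symm_eq, oneEquiv_symm_eq, d_omega hd 1 (fun _ => j),
    zero_add, hd 1 _ _ (fun _ => Or.inl ⟨(u : B), rfl⟩), Derivation.leibniz_of_mul_eq_one _ (Units.inv_mul u), map_smul]
  erw [(exteriorPower.ιMulti B (1 + 1)).toMultilinearMap.cons_smul]
  rw [AlternatingMap.coe_multilinearMap, AlternatingMap.map_eq_zero_of_eq _ _ (i := 0) (j := 1) ?_ (by decide), smul_zero]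
  rfl

end Groth.Agent.LogConnH7
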